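import Mathlib
import Cfsg.Agent.Lib.StOm.Builder

/-!
The Steinberg character when the simple roots cover all consecutive positions.
-/

set_option autoImplicit false
set_option linter.unusedSectionVars false
set_option linter.unusedSimpArgs false

namespace Cfsg.Agent.Lib.StOm.Cov

open Matrix Cfsg Cfsg.Agent.Lib.PSL2.Basic Cfsg.Agent.Lib.ChevBN.Core
open Cfsg.Agent.Lib.StGen.Mono Cfsg.Agent.Lib.StGen.Chain Cfsg.Agent.Lib.StOm.Builder
open scoped MatrixGroups

variable {G : Type*} [Group G] {ι : Type*} [Fintype ι] [DecidableEq ι] {F : Type*} [Field F]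
variable {ρ : G →* Matrix ι ι F} {ord : ι → ℕ}
variable [Finite G]

section Main

variable {hord : Function.Injective ord} {J : Type*} (D : J → RootData ρ (ord := ord))
  (hinj : Function.Injective fun j => (D j).π)
  (hτ : ∀ j c r, ord c < ord r → ord ((D j).π r) < ord ((D j).π c) →
    (D j).Sx ((D j).π r) ((D j).π c))
  (hsurj : ∀ i k, k < ord i → ∃ j, ord j = k)
  (hcov : ∀ r c, ord c = ord r + 1 → ∃ j, (D j).Sx r c)

include hord hsurj hcov in
theorem flip_of_cov (π : Equiv.Perm ι) (hn : ∃ n, IsMon ρ n π) (hπ : π ≠ 1) :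
    ∃ j, ∀ r c, (D j).Sx r c → ord (π c) < ord (π r) := by
  obtain ⟨n, hn⟩ := hn
  by_contra hcon
  push Not at hcon
  apply hπ
  have hkeep : ∀ j r c, (D j).Sx r c → ord (π r) < ord (π c) := by
    intro j
    obtain ⟨r₀, c₀, h0, h1⟩ := hcon j
    rcases (D j).dich n⁻¹ π⁻¹ hn.inv with h | h
    · intro r c hS
      simpa using h r c hS
    · exfalso
      have h2 := h r₀ c₀ h0
      simp only [inv_inv] at h2
      omega
  refine eq_one_of_mono hord ?_
  refine chain_of_consec (R := fun r c => ord (π r) < ord (π c)) (fun a b c h1 h2 => lt_trans h1 h2) hsurj ?_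
  intro r c hc
  obtain ⟨j, hj⟩ := hcov r c hc
  exact hkeep j r c hj

variable {p : ℕ} [hp : Fact p.Prime] [CharP F p] [Nonempty ι] (hρ : Function.Injective ρ)
  (hG : (USub ρ hord ⊔ HSub ρ) ⊔ NSub ρ = ⊤)

variable (p) in
include hinj hτ hsurj hcov hρ hG in
/-- The Steinberg character of the central quotient. -/
theorem main [Fintype J] [DecidableEq J] :
    ∃ χ : (G ⧸ Subgroup.center G) → ℂ, Cfsg.IsIrrCharacter (G ⧸ Subgroup.center G) χ ∧
    ∀ Q : Sylow p (G ⧸ Subgroup.center G), χ 1 = Nat.card Q ∧ ∀ x : G ⧸ Subgroup.center G, x ∈ Q → x ≠ 1 → χ x = 0 := by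
  refine Builder.main D hinj (R := fun _ _ => True) (fun _ => trivial) (fun _ _ _ _ => trivial)
    (fun j c r _ h1 h2 => hτ j c r h1 h2) (flip_of_cov (hord := hord) D hsurj hcov) p hρ hG ?_
  intro n π hπ hj x' hx hy
  refine anti_conj hπ hx hy fun r c hrc _ => ?_
  refine chain_of_consec (R := fun r c => ord (π⁻¹ c) < ord (π⁻¹ r)) (fun a b c h1 h2 => lt_trans h2 h1) hsurj ?_ r c hrc
  intro r c hc
  obtain ⟨j, hj'⟩ := hcov r c hc
  exact hj j r c hj'

end Main

end Cfsg.Agent.Lib.StOm.Cov
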